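import Mathlib
import Cfsg.Agent.Lib.Helper21.GolayChain

/-!
Affine and Moebius maps on the 24 points `Option (ZMod 23)`: function-level identities used for
the maximality of `PSL(2,23)` in `M24` and of `23:11` in `M23`.
-/

set_option autoImplicit false

namespace Cfsg.Agent.Lib.Helper9.M24Max

open Cfsg Cfsg.Agent.Lib.Helper21

/-- `x ↦ u x + b`, fixing the extra point. -/
def affFun (u b : ZMod 23) : GolayPt → GolayPt := Option.map (fun x => u * x + b)

theorem affFun_none (u b : ZMod 23) : affFun u b none = none := rfl

theorem affFun_some (u b x : ZMod 23) : affFun u b (some x) = some (u * x + b) := rfl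

theorem affFun_comp (u b u' b' : ZMod 23) (p : GolayPt) :
    affFun u b (affFun u' b' p) = affFun (u * u') (u * b' + b) p := by
  cases p with
  | none => rfl
  | some x =>
    simp only [affFun_some]
    congr 1
    ring

theorem affFun_one_zero (p : GolayPt) : affFun 1 0 p = p := by
  cases p with
  | none => rfl
  | some x => simp [affFun_some]

/-- nonzero squares of `ZMod 23` -/
def IsSq (u : ZMod 23) : Prop := u ≠ 0 ∧ ∃ r : ZMod 23, u = r * r

instance (u : ZMod 23) : Decidable (IsSq u) := by unfold IsSq; infer_instance

theorem isSq_one : IsSq 1 := by decide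

theorem isSq_mul : ∀ u v : ZMod 23, IsSq u → IsSq v → IsSq (u * v) := by decide

theorem isSq_inv : ∀ u v : ZMod 23, IsSq u → u * v = 1 → IsSq v := by decide

theorem isSq_ne_zero {u : ZMod 23} (h : IsSq u) : u ≠ 0 := h.1

theorem projInv_affFun : ∀ u v : ZMod 23, u * v = 1 → ∀ p : GolayPt,
    projInvFun (affFun u 0 p) = affFun v 0 (projInvFun p) := by
  decide +kernel

theorem projInv_affFun_projInv : ∀ u b c : ZMod 23, u ≠ 0 → b * c = 1 → ∀ p : GolayPt,
    projInvFun (affFun u b (projInvFun p)) =
      affFun (u * c * c) (-c) (projInvFun (affFun 1 (-(u * c)) p)) := by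
  decide +kernel

theorem projInv_projInv : ∀ p : GolayPt, projInvFun (projInvFun p) = p := by
  decide +kernel

end Cfsg.Agent.Lib.Helper9.M24Max
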