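import Mathlib

/-!
A counting form of Sylow's theorem for a subgroup of prime order `p` in a group whose order is not
divisible by `p ^ 2`, phrased for subgroups of an ambient group.
-/

set_option autoImplicit false

namespace Cfsg.Agent.Lib.Helper9.M24Max

theorem card_subgroupOf_of_le {Γ : Type*} [Group Γ] {H K : Subgroup Γ} (h : H ≤ K) :
    Nat.card (H.subgroupOf K) = Nat.card H :=
  Nat.card_congr (Subgroup.subgroupOfEquivOfLe h).toEquiv

theorem sylow_count {Γ : Type*} [Group Γ] [Finite Γ] (p : ℕ) [Fact p.Prime] (K P : Subgroup Γ)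
    (hPK : P ≤ K) (hP : Nat.card P = p) (hK : ¬ p ^ 2 ∣ Nat.card K) :
    ∃ n : ℕ, Nat.card K = Nat.card (Subgroup.normalizer (P : Set Γ) ⊓ K : Subgroup Γ) * n ∧ n % p = 1 := by
  have hp : p.Prime := Fact.out
  have hcard' : Nat.card (P.subgroupOf K) = p := by rw [card_subgroupOf_of_le hPK, hP]
  have hKpos : Nat.card K ≠ 0 := Nat.card_pos.ne'
  have hdvd : p ∣ Nat.card K := by
    rw [← hP]; exact Subgroup.card_dvd_of_le hPK
  have hfac : (Nat.card K).factorization p = 1 := by
    have h1 : 1 ≤ (Nat.card K).factorization p := by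
      rw [← hp.pow_dvd_iff_le_factorization hKpos, pow_one]; exact hdvd
    have h2 : ¬ 2 ≤ (Nat.card K).factorization p := by
      rw [← hp.pow_dvd_iff_le_factorization hKpos]; exact hK
    omega
  let S : Sylow p K := Sylow.ofCard (P.subgroupOf K) (by rw [hcard', hfac, pow_one])
  have h1 : Nat.card (Sylow p K) ≡ 1 [MOD p] := card_sylow_modEq_one p K
  have h2 : Nat.card (Sylow p K) = (Subgroup.normalizer ((S : Subgroup K) : Set K)).index := S.card_eq_index_normalizer
  have h3 : Subgroup.normalizer ((S : Subgroup K) : Set K) = (Subgroup.normalizer (P : Set Γ) ⊓ K).subgroupOf K := by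
    rw [Sylow.coe_ofCard, ← Subgroup.subgroupOf_normalizer_eq hPK, Subgroup.inf_subgroupOf_right]
  refine ⟨Nat.card (Sylow p K), ?_, ?_⟩
  · rw [h2, h3, ← card_subgroupOf_of_le (inf_le_right : Subgroup.normalizer (P : Set Γ) ⊓ K ≤ K)]
    exact (Subgroup.card_mul_index _).symm
  · have := h1
    unfold Nat.ModEq at this
    rw [this]
    exact Nat.mod_eq_of_lt hp.one_lt

end Cfsg.Agent.Lib.Helper9.M24Max
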