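import Cfsg.Agent.Lib.Helper9.M24Max.Norm
import Cfsg.Agent.Lib.Helper9.M24Max.Syl

/-!
Orders of `F = 23:11`, `L = PSL(2,23)` and `M23`.
-/

set_option autoImplicit false

namespace Cfsg.Agent.Lib.Helper9.M24Max

open Cfsg Cfsg.Agent.Lib.Helper21

/-- `M23`: the stabiliser of the extra point. -/
noncomputable abbrev gInf : Subgroup (Equiv.Perm GolayPt) :=
  M24 ⊓ MulAction.stabilizer (Equiv.Perm GolayPt) (none : GolayPt)

abbrev SqT : Type := {u : ZMod 23 // IsSq u}

theorem card_SqT : Fintype.card SqT = 11 := by decide +kernel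

/-- the parametrised maps -/
def formFun (x : Option (ZMod 23) × SqT × ZMod 23) : GolayPt → GolayPt :=
  match x.1 with
  | none => affFun x.2.1.1 x.2.2
  | some c => fun p => affFun x.2.1.1 x.2.2 (projInvFun (affFun 1 c p))

theorem exists_formF {g : Equiv.Perm GolayPt} (hg : g ∈ grpF) :
    ∃ x : SqT × ZMod 23, (⇑g : GolayPt → GolayPt) = affFun x.1.1 x.2 := by
  obtain ⟨u, b, hu, e⟩ := isAff_of_mem_grpF hg
  exact ⟨(⟨u, hu⟩, b), e⟩

theorem exists_formL {g : Equiv.Perm GolayPt} (hg : g ∈ grpL) :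
    ∃ x : Option (ZMod 23) × SqT × ZMod 23, (⇑g : GolayPt → GolayPt) = formFun x := by
  rcases isForm_of_mem_grpL hg with ⟨u, b, hu, e⟩ | ⟨u, b, c, hu, e⟩
  · exact ⟨(none, ⟨u, hu⟩, b), e⟩
  · exact ⟨(some c, ⟨u, hu⟩, b), e⟩

theorem card_grpF_le : Nat.card grpF ≤ 253 := by
  classical
  let ψ : grpF → SqT × ZMod 23 := fun g => Classical.choose (exists_formF g.2)
  have hψ : ∀ g : grpF, (⇑(g : Equiv.Perm GolayPt) : GolayPt → GolayPt) = affFun (ψ g).1.1 (ψ g).2 :=
    fun g => Classical.choose_spec (exists_formF g.2)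
  have hinj : Function.Injective ψ := by
    intro g g' h
    apply Subtype.ext
    apply perm_eq_of_coe
    rw [hψ g, hψ g', h]
  have := Nat.card_le_card_of_injective ψ hinj
  have hc : Nat.card (SqT × ZMod 23) = 253 := by
    rw [Nat.card_eq_fintype_card, Fintype.card_prod, card_SqT, ZMod.card]
  omega

theorem card_grpL_le : Nat.card grpL ≤ 6072 := by
  classical
  let ψ : grpL → Option (ZMod 23) × SqT × ZMod 23 := fun g => Classical.choose (exists_formL g.2)
  have hψ : ∀ g : grpL, (⇑(g : Equiv.Perm GolayPt) : GolayPt → GolayPt) = formFun (ψ g) :=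
    fun g => Classical.choose_spec (exists_formL g.2)
  have hinj : Function.Injective ψ := by
    intro g g' h
    apply Subtype.ext
    apply perm_eq_of_coe
    rw [hψ g, hψ g', h]
  have := Nat.card_le_card_of_injective ψ hinj
  have hc : Nat.card (Option (ZMod 23) × SqT × ZMod 23) = 6072 := by
    rw [Nat.card_eq_fintype_card, Fintype.card_prod, Fintype.card_prod, card_SqT, ZMod.card,
      Fintype.card_option, ZMod.card]
  omega

theorem card_grpF : Nat.card grpF = 253 := by
  have h1 : 23 ∣ Nat.card grpF := by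
    have := Subgroup.orderOf_dvd_natCard grpF tT_mem_grpF
    rwa [orderOf_tT] at this
  have h2 : 11 ∣ Nat.card grpF := by
    have := Subgroup.orderOf_dvd_natCard grpF dD_mem_grpF
    rwa [orderOf_dD] at this
  have h3 : 253 ∣ Nat.card grpF :=
    Nat.Coprime.mul_dvd_of_dvd_of_dvd (by norm_num : Nat.Coprime 23 11) h1 h2
  have h4 := card_grpF_le
  have h5 : 0 < Nat.card grpF := Nat.card_pos
  obtain ⟨k, hk⟩ := h3
  have : k = 1 := by nlinarith
  omega

/-- `L` is transitive on the 24 points. -/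
theorem orbit_grpL : MulAction.orbit grpL (none : GolayPt) = Set.univ := by
  rw [Set.eq_univ_iff_forall]
  intro p
  rw [mem_orbit_subgroup_iff']
  cases p with
  | none => exact ⟨1, Subgroup.one_mem _, rfl⟩
  | some x =>
    have hT : tT ∈ grpL := grpF_le_grpL tT_mem_grpF
    have hJ : projInv ∈ grpL :=
      Subgroup.subset_closure
        (show projInv ∈ ({tT, projInv} ∪ dS : Set (Equiv.Perm GolayPt)) from Or.inl (Or.inr rfl))
    refine ⟨tT ^ x.val * projInv, ?_, ?_⟩
    · exact Subgroup.mul_mem _ (Subgroup.pow_mem _ hT _) hJ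
    · show (tT ^ x.val * projInv) none = some x
      rw [Equiv.Perm.coe_mul, Function.comp_apply, coe_tT_pow, coe_projInv]
      show affFun 1 (x.val : ZMod 23) (some 0) = some x
      rw [affFun_some, ZMod.natCast_zmod_val]
      congr 1; ring

theorem ncard_univ_pt : (Set.univ : Set GolayPt).ncard = 24 := by
  rw [Set.ncard_univ, Nat.card_eq_fintype_card, Fintype.card_option, ZMod.card]

theorem card_grpL : Nat.card grpL = 6072 := by
  have h1 : 253 ∣ Nat.card grpL := by
    rw [← card_grpF]; exact Subgroup.card_dvd_of_le grpF_le_grpL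
  have h2 : 24 ∣ Nat.card grpL := by
    have := card_eq_orbit_mul_card_inf_stabilizer grpL (none : GolayPt)
    rw [orbit_grpL, ncard_univ_pt] at this
    exact ⟨_, this⟩
  have h3 : 6072 ∣ Nat.card grpL :=
    Nat.Coprime.mul_dvd_of_dvd_of_dvd (by norm_num : Nat.Coprime 253 24) h1 h2
  have h4 := card_grpL_le
  have h5 : 0 < Nat.card grpL := Nat.card_pos
  obtain ⟨k, hk⟩ := h3
  have : k = 1 := by nlinarith
  omega

theorem orbit_of_grpL_le {H : Subgroup (Equiv.Perm GolayPt)} (h : grpL ≤ H) :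
    MulAction.orbit H (none : GolayPt) = Set.univ := by
  rw [Set.eq_univ_iff_forall]
  intro p
  have hp : p ∈ MulAction.orbit grpL (none : GolayPt) := by rw [orbit_grpL]; trivial
  rw [mem_orbit_subgroup_iff'] at hp ⊢
  obtain ⟨g, hg, e⟩ := hp
  exact ⟨g, h hg, e⟩

theorem card_of_grpL_le {H : Subgroup (Equiv.Perm GolayPt)} (h : grpL ≤ H) :
    Nat.card H = 24 * Nat.card (H ⊓ MulAction.stabilizer (Equiv.Perm GolayPt) (none : GolayPt) :
      Subgroup (Equiv.Perm GolayPt)) := by
  have := card_eq_orbit_mul_card_inf_stabilizer H (none : GolayPt)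
  rwa [orbit_of_grpL_le h, ncard_univ_pt] at this

theorem card_gInf : Nat.card gInf = 10200960 := by
  have := card_of_grpL_le grpL_le_M24
  rw [card_M24] at this
  show Nat.card (M24 ⊓ MulAction.stabilizer (Equiv.Perm GolayPt) (none : GolayPt) :
      Subgroup (Equiv.Perm GolayPt)) = 10200960
  omega

end Cfsg.Agent.Lib.Helper9.M24Max
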