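import Mathlib

/-!
Coatoms of the subgroup lattice of a subgroup, in terms of the ambient group.
-/

set_option autoImplicit false

namespace Cfsg.Agent.Lib.Helper9.M24Max

theorem mem_map_subtype_iff {Γ : Type*} [Group Γ] {B : Subgroup Γ} (b : Subgroup ↥B) (z : ↥B) :
    (z : Γ) ∈ b.map B.subtype ↔ z ∈ b := by
  constructor
  · rintro ⟨w, hw, e⟩
    have : w = z := Subtype.ext e
    rwa [← this]
  · intro hz
    exact ⟨z, hz, rfl⟩

theorem isCoatom_subgroupOf {Γ : Type*} [Group Γ] (A B : Subgroup Γ) (hAB : A ≤ B) (hne : ¬ B ≤ A)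
    (hmax : ∀ H : Subgroup Γ, A ≤ H → H ≤ B → H = A ∨ H = B) : IsCoatom (A.subgroupOf B) := by
  constructor
  · intro h
    exact hne (Subgroup.subgroupOf_eq_top.mp h)
  · intro b hb
    have hHB : b.map B.subtype ≤ B := Subgroup.map_subtype_le b
    have hAH : A ≤ b.map B.subtype := by
      intro x hx
      exact ⟨⟨x, hAB hx⟩, hb.le (Subgroup.mem_subgroupOf.mpr hx), rfl⟩
    rcases hmax _ hAH hHB with h | h
    · exfalso
      apply hb.not_ge
      intro y hy
      rw [Subgroup.mem_subgroupOf, ← h]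
      exact ⟨y, hy, rfl⟩
    · rw [eq_top_iff]
      intro y _
      have : (y : Γ) ∈ b.map B.subtype := by rw [h]; exact y.2
      exact (mem_map_subtype_iff b y).mp this

end Cfsg.Agent.Lib.Helper9.M24Max
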