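import Cfsg.Agent.Lib.Helper9.M24Max.Mem

/-!
The groups `F = 23:11` and `L = PSL(2,23)` inside `M24`: normal forms, orders.
-/

set_option autoImplicit false

namespace Cfsg.Agent.Lib.Helper9.M24Max

open Cfsg Cfsg.Agent.Lib.Helper21

instance fact23 : Fact (Nat.Prime 23) := ⟨by norm_num⟩

instance fact11 : Fact (Nat.Prime 11) := ⟨by norm_num⟩

/-- the translation `x ↦ x + 1` -/
noncomputable abbrev tT : Equiv.Perm GolayPt := Equiv.optionCongr (Equiv.addRight (1 : ZMod 23))

/-- the dilations by squares, as in the statement -/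
abbrev dS : Set (Equiv.Perm GolayPt) :=
  {g : Equiv.Perm GolayPt | ∃ u : (ZMod 23)ˣ, IsSquare u ∧ g = Equiv.optionCongr (Units.mulLeft u)}

noncomputable abbrev grpF : Subgroup (Equiv.Perm GolayPt) := Subgroup.closure ({tT} ∪ dS)

noncomputable abbrev grpL : Subgroup (Equiv.Perm GolayPt) := Subgroup.closure ({tT, projInv} ∪ dS)

theorem coe_tT : (⇑tT : GolayPt → GolayPt) = affFun 1 1 := by
  funext p
  cases p with
  | none => rfl
  | some x => simp [affFun_some]

theorem coe_dil (u : (ZMod 23)ˣ) :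
    (⇑(Equiv.optionCongr (Units.mulLeft u)) : GolayPt → GolayPt) = affFun (u : ZMod 23) 0 := by
  funext p
  cases p with
  | none => rfl
  | some x => simp [affFun_some]

theorem coe_projInv : (⇑projInv : GolayPt → GolayPt) = projInvFun := rfl

theorem isSq_of_isSquare (u : (ZMod 23)ˣ) (h : IsSquare u) : IsSq (u : ZMod 23) := by
  obtain ⟨r, rfl⟩ := h
  exact ⟨Units.ne_zero _, (r : ZMod 23), by simp⟩

/-- Form of an element: affine with square multiplier. -/
def IsAff (g : Equiv.Perm GolayPt) : Prop := ∃ u b : ZMod 23, IsSq u ∧ (⇑g : GolayPt → GolayPt) = affFun u b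

/-- Form of an element: `aff ∘ J ∘ translation`. -/
def IsBig (g : Equiv.Perm GolayPt) : Prop :=
  ∃ u b c : ZMod 23, IsSq u ∧ (⇑g : GolayPt → GolayPt) = fun p => affFun u b (projInvFun (affFun 1 c p))

theorem isAff_one : IsAff 1 := ⟨1, 0, isSq_one, by funext p; simp [affFun_one_zero]⟩

theorem IsAff.mul {g h : Equiv.Perm GolayPt} (hg : IsAff g) (hh : IsAff h) : IsAff (g * h) := by
  obtain ⟨u, b, hu, e⟩ := hg
  obtain ⟨u', b', hu', e'⟩ := hh
  refine ⟨u * u', u * b' + b, isSq_mul u u' hu hu', ?_⟩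
  funext p
  rw [Equiv.Perm.coe_mul, Function.comp_apply, e, e', affFun_comp]

theorem coe_inv_of_leftInv (g : Equiv.Perm GolayPt) (f : GolayPt → GolayPt)
    (h : ∀ p, f (g p) = p) : (⇑g⁻¹ : GolayPt → GolayPt) = f := by
  funext p
  have h2 := h (g⁻¹ p)
  have h3 : g (g⁻¹ p) = p := by simp
  rw [h3] at h2
  exact h2.symm

theorem IsAff.inv {g : Equiv.Perm GolayPt} (hg : IsAff g) : IsAff g⁻¹ := by
  obtain ⟨u, b, hu, e⟩ := hg
  have hu0 : u ≠ 0 := hu.1
  refine ⟨u⁻¹, -(u⁻¹ * b), isSq_inv u u⁻¹ hu (mul_inv_cancel₀ hu0), ?_⟩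
  apply coe_inv_of_leftInv
  intro p
  rw [e, affFun_comp, inv_mul_cancel₀ hu0]
  have : u⁻¹ * b + -(u⁻¹ * b) = 0 := by ring
  rw [this, affFun_one_zero]

theorem isAff_tT : IsAff tT := ⟨1, 1, isSq_one, coe_tT⟩

theorem isAff_of_mem_dS {g : Equiv.Perm GolayPt} (hg : g ∈ dS) : IsAff g := by
  obtain ⟨u, hu, rfl⟩ := hg
  exact ⟨(u : ZMod 23), 0, isSq_of_isSquare u hu, coe_dil u⟩

theorem isAff_of_mem_grpF {g : Equiv.Perm GolayPt} (hg : g ∈ grpF) : IsAff g := by
  induction hg using Subgroup.closure_induction with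
  | mem x hx =>
    rcases hx with hx | hx
    · rw [Set.mem_singleton_iff] at hx
      rw [hx]; exact isAff_tT
    · exact isAff_of_mem_dS hx
  | one => exact isAff_one
  | mul x y _ _ hx hy => exact hx.mul hy
  | inv x _ hx => exact hx.inv


/-! ### forms of the elements of `L` -/

theorem IsAff.mul_big {g h : Equiv.Perm GolayPt} (hg : IsAff g) (hh : IsBig h) : IsBig (g * h) := by
  obtain ⟨u, b, hu, e⟩ := hg
  obtain ⟨u', b', c, hu', e'⟩ := hh
  refine ⟨u * u', u * b' + b, c, isSq_mul u u' hu hu', ?_⟩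
  funext p
  rw [Equiv.Perm.coe_mul, Function.comp_apply, e, e', affFun_comp]

theorem projInv_mul_aff {h : Equiv.Perm GolayPt} (hh : IsAff h) : IsBig (projInv * h) := by
  obtain ⟨u, b, hu, e⟩ := hh
  have hu0 : u ≠ 0 := hu.1
  refine ⟨u⁻¹, 0, u⁻¹ * b, isSq_inv u u⁻¹ hu (mul_inv_cancel₀ hu0), ?_⟩
  funext p
  rw [Equiv.Perm.coe_mul, Function.comp_apply, e, coe_projInv]
  have h1 : affFun u b p = affFun u 0 (affFun 1 (u⁻¹ * b) p) := by
    rw [affFun_comp]
    congr 1
    · ring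
    · rw [← mul_assoc, mul_inv_cancel₀ hu0]; ring
  rw [h1, projInv_affFun u u⁻¹ (mul_inv_cancel₀ hu0)]

theorem projInv_mul_big {h : Equiv.Perm GolayPt} (hh : IsBig h) :
    IsAff (projInv * h) ∨ IsBig (projInv * h) := by
  obtain ⟨u, b, c, hu, e⟩ := hh
  have hu0 : u ≠ 0 := hu.1
  by_cases hb : b = 0
  · left
    refine ⟨u⁻¹, u⁻¹ * c, isSq_inv u u⁻¹ hu (mul_inv_cancel₀ hu0), ?_⟩
    funext p
    rw [Equiv.Perm.coe_mul, Function.comp_apply, e, coe_projInv, hb]
    show projInvFun (affFun u 0 (projInvFun (affFun 1 c p))) = _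
    rw [projInv_affFun u u⁻¹ (mul_inv_cancel₀ hu0), projInv_projInv, affFun_comp]
    congr 1 <;> ring
  · right
    have hc0 : b⁻¹ ≠ 0 := inv_ne_zero hb
    have hsq : IsSq (b⁻¹ * b⁻¹) := ⟨mul_ne_zero hc0 hc0, b⁻¹, rfl⟩
    refine ⟨u * b⁻¹ * b⁻¹, -b⁻¹, c + -(u * b⁻¹), ?_, ?_⟩
    · rw [mul_assoc]; exact isSq_mul u _ hu hsq
    · funext p
      rw [Equiv.Perm.coe_mul, Function.comp_apply, e, coe_projInv]
      show projInvFun (affFun u b (projInvFun (affFun 1 c p))) = _
      rw [projInv_affFun_projInv u b b⁻¹ hu0 (mul_inv_cancel₀ hb), affFun_comp]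
      congr 3 <;> ring

theorem projInv_inv : projInv⁻¹ = projInv := rfl

theorem isForm_of_mem_grpL {g : Equiv.Perm GolayPt} (hg : g ∈ grpL) : IsAff g ∨ IsBig g := by
  have key : ∀ x ∈ ({tT, projInv} ∪ dS : Set (Equiv.Perm GolayPt)), IsAff x ∨ x = projInv := by
    intro x hx
    rcases hx with hx | hx
    · rcases hx with hx | hx
      · left; rw [hx]; exact isAff_tT
      · right; exact hx
    · left; exact isAff_of_mem_dS hx
  have step : ∀ x : Equiv.Perm GolayPt, (IsAff x ∨ x = projInv) → ∀ y, (IsAff y ∨ IsBig y) →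
      (IsAff (x * y) ∨ IsBig (x * y)) := by
    intro x hx y hy
    rcases hx with hx | hx
    · rcases hy with hy | hy
      · exact Or.inl (hx.mul hy)
      · exact Or.inr (hx.mul_big hy)
    · rw [hx]
      rcases hy with hy | hy
      · exact Or.inr (projInv_mul_aff hy)
      · exact projInv_mul_big hy
  induction hg using Subgroup.closure_induction_left with
  | one => exact Or.inl isAff_one
  | mul_left x hx y _ ih => exact step x (key x hx) y ih
  | inv_mul_cancel x hx y _ ih =>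
    refine step x⁻¹ ?_ y ih
    rcases key x hx with h | h
    · exact Or.inl h.inv
    · right; rw [h, projInv_inv]

/-! ### membership in `M24` -/

theorem tT_mem_M24 : tT ∈ M24 := genPerm_mem 0

theorem projInv_mem_M24 : projInv ∈ M24 := genPerm_mem 2

theorem dS_sub_M24 {g : Equiv.Perm GolayPt} (hg : g ∈ dS) : g ∈ M24 := by
  obtain ⟨u, hu, rfl⟩ := hg
  apply mem_of_okFun
  rw [coe_dil]
  exact sq_ok _ (isSq_of_isSquare u hu)

theorem grpL_le_M24 : grpL ≤ M24 := by
  rw [Subgroup.closure_le]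
  intro x hx
  rcases hx with hx | hx
  · rcases hx with hx | hx
    · rw [hx]; exact tT_mem_M24
    · rw [Set.mem_singleton_iff] at hx
      rw [hx]; exact projInv_mem_M24
  · exact dS_sub_M24 hx

theorem grpF_le_grpL : grpF ≤ grpL := by
  apply Subgroup.closure_mono
  intro x hx
  rcases hx with hx | hx
  · left; left; exact hx
  · right; exact hx

theorem grpF_le_M24 : grpF ≤ M24 := grpF_le_grpL.trans grpL_le_M24

theorem grpF_fix_none {g : Equiv.Perm GolayPt} (hg : g ∈ grpF) : g none = none := by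
  obtain ⟨u, b, _, e⟩ := isAff_of_mem_grpF hg
  rw [e]; rfl

/-! ### powers -/

theorem coe_tT_pow (n : ℕ) : (⇑(tT ^ n) : GolayPt → GolayPt) = affFun 1 (n : ZMod 23) := by
  induction n with
  | zero => funext p; simp [affFun_one_zero]
  | succ n ih =>
    funext p
    rw [pow_succ, Equiv.Perm.coe_mul, Function.comp_apply, ih, coe_tT, affFun_comp]
    have h1 : (1 : ZMod 23) * 1 = 1 := by ring
    have h2 : (1 : ZMod 23) * 1 + (n : ZMod 23) = ((n + 1 : ℕ) : ZMod 23) := by push_cast; ring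
    rw [h2, h1]

theorem coe_pow_dil (g : Equiv.Perm GolayPt) (u : ZMod 23) (e : (⇑g : GolayPt → GolayPt) = affFun u 0)
    (n : ℕ) : (⇑(g ^ n) : GolayPt → GolayPt) = affFun (u ^ n) 0 := by
  induction n with
  | zero => funext p; simp [affFun_one_zero]
  | succ n ih =>
    funext p
    rw [pow_succ, Equiv.Perm.coe_mul, Function.comp_apply, ih, e, affFun_comp]
    have h1 : u ^ n * u = u ^ (n + 1) := by ring
    have h2 : u ^ n * 0 + 0 = (0 : ZMod 23) := by ring
    rw [h1, h2]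

theorem perm_eq_of_coe {g h : Equiv.Perm GolayPt} (e : (⇑g : GolayPt → GolayPt) = ⇑h) : g = h :=
  Equiv.ext (fun p => congrFun e p)

theorem tT_pow_23 : tT ^ 23 = 1 := by
  apply perm_eq_of_coe
  rw [coe_tT_pow]
  funext p
  have : ((23 : ℕ) : ZMod 23) = 0 := by decide
  rw [this, affFun_one_zero]; rfl

theorem tT_ne_one : tT ≠ 1 := by
  intro h
  have := congrFun (congrArg (fun g : Equiv.Perm GolayPt => (⇑g : GolayPt → GolayPt)) h) (some 0)
  simp only [coe_tT, affFun_some] at this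
  revert this; decide

theorem orderOf_tT : orderOf tT = 23 := orderOf_eq_prime tT_pow_23 tT_ne_one

/-- the dilation by `2 = 5 * 5` -/
noncomputable def u5 : (ZMod 23)ˣ := Units.mk0 (5 : ZMod 23) (by decide)

noncomputable abbrev dD : Equiv.Perm GolayPt := Equiv.optionCongr (Units.mulLeft (u5 * u5))

theorem dD_mem_dS : dD ∈ dS := ⟨u5 * u5, ⟨u5, rfl⟩, rfl⟩

theorem coe_dD : (⇑dD : GolayPt → GolayPt) = affFun 2 0 := by
  rw [coe_dil]
  have : ((u5 * u5 : (ZMod 23)ˣ) : ZMod 23) = 2 := by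
    rw [Units.val_mul]; show (5 : ZMod 23) * 5 = 2; decide
  rw [this]

theorem dD_pow_11 : dD ^ 11 = 1 := by
  apply perm_eq_of_coe
  rw [coe_pow_dil dD 2 coe_dD]
  funext p
  have : (2 : ZMod 23) ^ 11 = 1 := by decide
  rw [this, affFun_one_zero]; rfl

theorem dD_ne_one : dD ≠ 1 := by
  intro h
  have := congrFun (congrArg (fun g : Equiv.Perm GolayPt => (⇑g : GolayPt → GolayPt)) h) (some 1)
  simp only [coe_dD, affFun_some] at this
  revert this; decide

theorem orderOf_dD : orderOf dD = 11 := orderOf_eq_prime dD_pow_11 dD_ne_one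

theorem tT_mem_grpF : tT ∈ grpF := Subgroup.subset_closure (Or.inl rfl)

theorem dD_mem_grpF : dD ∈ grpF := Subgroup.subset_closure (Or.inr dD_mem_dS)

/-- every affine map with square multiplier lies in `F` -/
theorem mem_grpF_of_isAff {g : Equiv.Perm GolayPt} (hg : IsAff g) : g ∈ grpF := by
  obtain ⟨u, b, ⟨hu0, r, hr⟩, e⟩ := hg
  have hr0 : r ≠ 0 := by
    rintro rfl
    apply hu0; rw [hr]; ring
  let r' : (ZMod 23)ˣ := Units.mk0 r hr0
  have hD : Equiv.optionCongr (Units.mulLeft (r' * r')) ∈ grpF :=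
    Subgroup.subset_closure (Or.inr ⟨r' * r', ⟨r', rfl⟩, rfl⟩)
  have hT : tT ^ b.val ∈ grpF := Subgroup.pow_mem _ tT_mem_grpF _
  have : g = tT ^ b.val * Equiv.optionCongr (Units.mulLeft (r' * r')) := by
    apply perm_eq_of_coe
    funext p
    rw [Equiv.Perm.coe_mul, Function.comp_apply, coe_tT_pow, coe_dil, e, affFun_comp]
    have h1 : ((r' * r' : (ZMod 23)ˣ) : ZMod 23) = u := by
      rw [Units.val_mul, hr]; rfl
    rw [h1, ZMod.natCast_zmod_val]
    congr 1 <;> ring
  rw [this]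
  exact Subgroup.mul_mem _ hT hD

end Cfsg.Agent.Lib.Helper9.M24Max
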