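import Cfsg.Agent.Lib.Helper9.M24Max.Max

/-!
Maximality of `23:11` in `M23` and of `PSL(2,23)` in `M24`: the main lemmas.
-/

set_option autoImplicit false

namespace Cfsg.Agent.Lib.Helper9.M24Max

open Cfsg Cfsg.Agent.Lib.Helper21

theorem not_dvd_529 : ¬ 23 ^ 2 ∣ 10200960 := by norm_num

theorem not_dvd_121 : ¬ 11 ^ 2 ∣ 10200960 := by norm_num

/-- `23:11` is maximal in `M23`. -/
theorem max_F (K : Subgroup (Equiv.Perm GolayPt)) (h1 : grpF ≤ K) (h2 : K ≤ gInf) :
    K = grpF ∨ K = gInf := by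
  have hKd : Nat.card K ∣ 10200960 := by
    rw [← card_gInf]; exact Subgroup.card_dvd_of_le h2
  have hP : sP ≤ K := sP_le_grpF.trans h1
  have hnd : ¬ 23 ^ 2 ∣ Nat.card K := fun h => not_dvd_529 (h.trans hKd)
  obtain ⟨n, hn1, hn2⟩ := sylow_count 23 K sP hP card_sP hnd
  rw [normalizer_sP_inf h1 h2, card_grpF] at hn1
  have hn3 : n ∣ 40320 := by
    rw [hn1] at hKd
    have : (253 * n) ∣ 253 * 40320 := by norm_num; exact hKd
    exact Nat.dvd_of_mul_dvd_mul_left (by norm_num) this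
  have hn4 : n ∈ Nat.divisors 40320 := Nat.mem_divisors.mpr ⟨hn3, by norm_num⟩
  have hcases := divisors_cases n hn4 hn2
  -- the stabiliser of `0`
  have horb := card_eq_orbit_mul_card_inf_stabilizer K (some 0 : GolayPt)
  rw [orbit_zero h1 h2, ncard_range_some] at horb
  set K0 : Subgroup (Equiv.Perm GolayPt) :=
    K ⊓ MulAction.stabilizer (Equiv.Perm GolayPt) (some 0 : GolayPt) with hK0
  have hK0K : K0 ≤ K := inf_le_left
  have hQ : sQ ≤ K0 := by
    rw [Subgroup.zpowers_le]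
    refine ⟨h1 dD_mem_grpF, ?_⟩
    show dD (some 0) = some 0
    rw [coe_dD, affFun_some]; congr 1
  have hK0d : Nat.card K0 ∣ 10200960 := (Subgroup.card_dvd_of_le hK0K).trans hKd
  have hnd' : ¬ 11 ^ 2 ∣ Nat.card K0 := fun h => not_dvd_121 (h.trans hK0d)
  obtain ⟨n', hn1', hn2'⟩ := sylow_count 11 K0 sQ hQ card_sQ hnd'
  have hN := card_normalizer_sQ (Subgroup.normalizer (sQ : Set (Equiv.Perm GolayPt)) ⊓ K0)
    (inf_le_right.trans (hK0K.trans h2)) inf_le_left (le_inf Subgroup.le_normalizer hQ)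
  rcases hcases with h | h | h | h | h | h
  · left
    symm
    apply Subgroup.eq_of_le_of_card_ge h1
    rw [card_grpF, hn1, h]
  · exfalso; rcases hN with hN | hN <;> rw [hN] at hn1' <;> omega
  · exfalso; rcases hN with hN | hN <;> rw [hN] at hn1' <;> omega
  · exfalso; rcases hN with hN | hN <;> rw [hN] at hn1' <;> omega
  · exfalso; rcases hN with hN | hN <;> rw [hN] at hn1' <;> omega
  · right
    apply Subgroup.eq_of_le_of_card_ge h2
    rw [card_gInf, hn1, h]

/-- `PSL(2,23)` is maximal in `M24`. -/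
theorem max_L (H : Subgroup (Equiv.Perm GolayPt)) (h1 : grpL ≤ H) (h2 : H ≤ M24) :
    H = grpL ∨ H = M24 := by
  have hc := card_of_grpL_le h1
  set H0 : Subgroup (Equiv.Perm GolayPt) :=
    H ⊓ MulAction.stabilizer (Equiv.Perm GolayPt) (none : GolayPt) with hH0
  have hF : grpF ≤ H0 := by
    intro g hg
    refine ⟨h1 (grpF_le_grpL hg), ?_⟩
    show g none = none
    exact grpF_fix_none hg
  have hG : H0 ≤ gInf := inf_le_inf_right _ h2
  rcases max_F H0 hF hG with h | h
  · left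
    symm
    apply Subgroup.eq_of_le_of_card_ge h1
    rw [hc, h, card_grpF, card_grpL]
  · right
    apply Subgroup.eq_of_le_of_card_ge h2
    rw [hc, h, card_gInf, card_M24]

end Cfsg.Agent.Lib.Helper9.M24Max
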