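import Cfsg.Agent.Lib.Helper9.M24Max.Card

/-!
Maximality of `23:11` in `M23` and of `PSL(2,23)` in `M24`.
-/

set_option autoImplicit false

namespace Cfsg.Agent.Lib.Helper9.M24Max

open Cfsg Cfsg.Agent.Lib.Helper21

noncomputable abbrev sP : Subgroup (Equiv.Perm GolayPt) := Subgroup.zpowers tT

noncomputable abbrev sQ : Subgroup (Equiv.Perm GolayPt) := Subgroup.zpowers dD

theorem card_sP : Nat.card sP = 23 := by rw [Nat.card_zpowers, orderOf_tT]

theorem card_sQ : Nat.card sQ = 11 := by rw [Nat.card_zpowers, orderOf_dD]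

theorem sP_le_grpF : sP ≤ grpF := by
  rw [Subgroup.zpowers_le]; exact tT_mem_grpF

theorem sQ_le_grpF : sQ ≤ grpF := by
  rw [Subgroup.zpowers_le]; exact dD_mem_grpF

theorem grpF_le_gInf : grpF ≤ gInf := by
  intro g hg
  exact ⟨grpF_le_M24 hg, grpF_fix_none hg⟩

/-- conjugating the translation by an affine map -/
theorem conj_tT_mem {f : Equiv.Perm GolayPt} (hf : f ∈ grpF) : f * tT * f⁻¹ ∈ sP := by
  obtain ⟨u, b, _, e⟩ := isAff_of_mem_grpF hf
  have h1 : f * tT = tT ^ u.val * f := by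
    apply perm_eq_of_coe
    funext p
    rw [Equiv.Perm.coe_mul, Equiv.Perm.coe_mul, Function.comp_apply, Function.comp_apply, e, coe_tT,
      coe_tT_pow, affFun_comp, affFun_comp, ZMod.natCast_zmod_val]
    congr 1 <;> ring
  rw [h1, mul_assoc, mul_inv_cancel, mul_one]
  exact Subgroup.pow_mem _ (Subgroup.mem_zpowers tT) _

theorem grpF_le_normalizer : grpF ≤ Subgroup.normalizer (sP : Set (Equiv.Perm GolayPt)) := by
  rw [Subgroup.le_normalizer_iff]
  intro f hf k hk
  obtain ⟨i, rfl⟩ := Subgroup.mem_zpowers_iff.mp hk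
  rw [← conj_zpow]
  exact Subgroup.zpow_mem _ (conj_tT_mem hf) _

theorem normalizer_sP_inf {K : Subgroup (Equiv.Perm GolayPt)} (h1 : grpF ≤ K) (h2 : K ≤ gInf) :
    Subgroup.normalizer (sP : Set (Equiv.Perm GolayPt)) ⊓ K = grpF := by
  apply le_antisymm
  · rintro x ⟨hx1, hx2⟩
    have hx3 := h2 hx2
    apply mem_grpF_of_isAff
    apply isAff_of_norm_tT x hx3.1 hx3.2
    exact (hx1 tT).mp (Subgroup.mem_zpowers tT)
  · exact le_inf grpF_le_normalizer h1

theorem divisors_cases : ∀ n ∈ Nat.divisors 40320, n % 23 = 1 →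
    n = 1 ∨ n = 24 ∨ n = 70 ∨ n = 576 ∨ n = 1680 ∨ n = 40320 := by
  decide +kernel

theorem ncard_range_some : (Set.range (some : ZMod 23 → GolayPt)).ncard = 23 := by
  rw [← Set.image_univ, Set.ncard_image_of_injective _ (Option.some_injective _), Set.ncard_univ,
    Nat.card_eq_fintype_card, ZMod.card]

theorem orbit_zero {K : Subgroup (Equiv.Perm GolayPt)} (h1 : grpF ≤ K) (h2 : K ≤ gInf) :
    MulAction.orbit K (some 0 : GolayPt) = Set.range (some : ZMod 23 → GolayPt) := by
  ext p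
  rw [mem_orbit_subgroup_iff']
  constructor
  · rintro ⟨g, hg, rfl⟩
    have hg2 : g none = none := (h2 hg).2
    cases hx : g (some 0) with
    | none =>
      have := g.injective (hx.trans hg2.symm)
      exact absurd this (by simp)
    | some y => exact ⟨y, hx.symm⟩
  · rintro ⟨x, rfl⟩
    refine ⟨tT ^ x.val, h1 (Subgroup.pow_mem _ tT_mem_grpF _), ?_⟩
    show (tT ^ x.val) (some 0) = some x
    rw [coe_tT_pow, affFun_some, ZMod.natCast_zmod_val]
    congr 1; ring

/-- the normaliser of `Q` in the stabiliser of `0` in `K` has order `11` or `55` -/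
theorem card_normalizer_sQ (N : Subgroup (Equiv.Perm GolayPt)) (hN1 : N ≤ gInf)
    (hN2 : N ≤ Subgroup.normalizer (sQ : Set (Equiv.Perm GolayPt))) (hQN : sQ ≤ N) :
    Nat.card N = 11 ∨ Nat.card N = 55 := by
  classical
  have key : ∀ g ∈ N, ∃ t : {t : ZMod 23 × ZMod 23 × ZMod 23 // GoodP t.1 t.2.1 t.2.2},
      (⇑g : GolayPt → GolayPt) = cand t.1.1 t.1.2.1 t.1.2.2 := by
    intro g hg
    have h1 := hN1 hg
    have h2 : g * dD * g⁻¹ ∈ sQ := ((hN2 hg) dD).mp (Subgroup.mem_zpowers dD)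
    obtain ⟨m, a, a', hgood, e⟩ := good_of_norm_dD g h1.1 h1.2 h2
    exact ⟨⟨(m, a, a'), hgood⟩, e⟩
  have hle : Nat.card N ≤ 55 := by
    let ψ : N → {t : ZMod 23 × ZMod 23 × ZMod 23 // GoodP t.1 t.2.1 t.2.2} :=
      fun g => Classical.choose (key g.1 g.2)
    have hψ : ∀ g : N, (⇑(g : Equiv.Perm GolayPt) : GolayPt → GolayPt) =
        cand (ψ g).1.1 (ψ g).1.2.1 (ψ g).1.2.2 := fun g => Classical.choose_spec (key g.1 g.2)
    have hinj : Function.Injective ψ := by
      intro g g' h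
      apply Subtype.ext
      apply perm_eq_of_coe
      rw [hψ g, hψ g', h]
    have := Nat.card_le_card_of_injective ψ hinj
    have hc : Nat.card {t : ZMod 23 × ZMod 23 × ZMod 23 // GoodP t.1 t.2.1 t.2.2} = 55 := by
      rw [Nat.card_eq_fintype_card, Fintype.card_subtype]
      exact good_card
    omega
  have h11 : 11 ∣ Nat.card N := by
    rw [← card_sQ]; exact Subgroup.card_dvd_of_le hQN
  have h2 : ¬ 2 ∣ Nat.card N := by
    intro hd
    haveI : Fact (Nat.Prime 2) := ⟨Nat.prime_two⟩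
    obtain ⟨x, hx⟩ := exists_prime_orderOf_dvd_card' (G := N) 2 hd
    obtain ⟨t, e⟩ := key x.1 x.2
    have hx2 : (x : Equiv.Perm GolayPt) ^ 2 = 1 := by
      have := pow_orderOf_eq_one x
      rw [hx] at this
      exact_mod_cast congrArg Subtype.val this
    have hsq : ∀ p, cand t.1.1 t.1.2.1 t.1.2.2 (cand t.1.1 t.1.2.1 t.1.2.2 p) = p := by
      intro p
      rw [← e]
      have := congrFun (congrArg (fun f : Equiv.Perm GolayPt => (⇑f : GolayPt → GolayPt)) hx2) p
      simpa [pow_two] using this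
    have hid := good_sq _ _ _ t.2 hsq
    have hx1 : (x : Equiv.Perm GolayPt) = 1 := by
      apply perm_eq_of_coe
      funext p
      rw [e, hid p]; rfl
    have : x = 1 := Subtype.ext hx1
    rw [this, orderOf_one] at hx
    omega
  have h3 : ¬ 3 ∣ Nat.card N := by
    intro hd
    haveI : Fact (Nat.Prime 3) := ⟨Nat.prime_three⟩
    obtain ⟨x, hx⟩ := exists_prime_orderOf_dvd_card' (G := N) 3 hd
    obtain ⟨t, e⟩ := key x.1 x.2
    have hx2 : (x : Equiv.Perm GolayPt) ^ 3 = 1 := by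
      have := pow_orderOf_eq_one x
      rw [hx] at this
      exact_mod_cast congrArg Subtype.val this
    have hsq : ∀ p, cand t.1.1 t.1.2.1 t.1.2.2
        (cand t.1.1 t.1.2.1 t.1.2.2 (cand t.1.1 t.1.2.1 t.1.2.2 p)) = p := by
      intro p
      rw [← e]
      have := congrFun (congrArg (fun f : Equiv.Perm GolayPt => (⇑f : GolayPt → GolayPt)) hx2) p
      simpa [pow_succ] using this
    have hid := good_cube _ _ _ t.2 hsq
    have hx1 : (x : Equiv.Perm GolayPt) = 1 := by
      apply perm_eq_of_coe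
      funext p
      rw [e, hid p]; rfl
    have : x = 1 := Subtype.ext hx1
    rw [this, orderOf_one] at hx
    omega
  have hpos : 0 < Nat.card N := Nat.card_pos
  obtain ⟨k, hk⟩ := h11
  have hk5 : k ≤ 5 := by omega
  interval_cases k <;> omega

end Cfsg.Agent.Lib.Helper9.M24Max
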