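import Cfsg.Agent.Lib.Helper9.M24Max.Basic

/-!
Membership / non-membership in `M24` for maps given as functions on the 24 points.
-/

set_option autoImplicit false

namespace Cfsg.Agent.Lib.Helper9.M24Max

open Cfsg Cfsg.Agent.Lib.Helper21

/-- precomposition of a word with a function on points -/
def pre (f : GolayPt → GolayPt) (w : GolayPt → ZMod 2) : GolayPt → ZMod 2 := fun p => w (f p)

theorem precomp_eq_pre (g : Equiv.Perm GolayPt) (w : GolayPt → ZMod 2) :
    (precomp g w : GolayPt → ZMod 2) = pre (⇑g) w := rfl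

def OkFun (f : GolayPt → GolayPt) : Prop :=
  ∀ t : ZMod 23, encMask (toMask (pre f (qrWord t)) % 4096) = toMask (pre f (qrWord t))

theorem mem_of_okFun (g : Equiv.Perm GolayPt) (h : OkFun (⇑g)) : g ∈ M24 :=
  mem_M24_of_masks g h

theorem sq_ok : ∀ u : ZMod 23, IsSq u → OkFun (affFun u 0) := by
  unfold OkFun
  decide +kernel

/-- Bool check on the twelve basis words. -/
def chk (f : GolayPt → GolayPt) : Bool :=
  basisMasks.all (fun b => encMask (toMask (pre f (ofMask b)) % 4096) == toMask (pre f (ofMask b)))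

theorem chk_of_mem (g : Equiv.Perm GolayPt) (hg : g ∈ M24) : chk (⇑g) = true := by
  unfold chk
  rw [List.all_eq_true]
  intro b hb
  have h1 := precomp_mem_of_mem_M24 g hg (ofMask b) (basis_mem b hb)
  rw [mem_golayCode_iff, precomp_eq_pre] at h1
  simpa using h1

theorem chk_nonsq : ∀ k b : ZMod 23, k ≠ 0 → ¬ IsSq k → chk (affFun k b) = false := by
  decide +kernel

/-- powers of `2` modulo `23` -/
def pw2 : List (ZMod 23) := [1, 2, 4, 8, 16, 9, 18, 13, 3, 6, 12]

def dlog (x : ZMod 23) : ℕ := pw2.idxOf x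

/-- candidate normalising maps of `x ↦ 2x`: determined by the multiplier `m` and the images of `1`, `-1` -/
def cand (m a a' : ZMod 23) : GolayPt → GolayPt
  | none => none
  | some x => if x = 0 then some 0 else
      if dlog x < 11 then some (m ^ dlog x * a) else some (m ^ dlog (-x) * a')

def GoodP (m a a' : ZMod 23) : Prop :=
  IsSq a ∧ ((m = 2 ∧ a' = 22 * a) ∨ (m = 6 ∧ a' = 10 * a) ∨ (m = 8 ∧ a' = 11 * a) ∨
    (m = 9 ∧ a' = 17 * a) ∨ (m = 16 ∧ a' = 7 * a))

instance (m a a' : ZMod 23) : Decidable (GoodP m a a') := by unfold GoodP; infer_instance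

theorem chk_cand : ∀ m a a' : ZMod 23, m ≠ 0 → m ≠ 1 → a ≠ 0 → a' ≠ 0 →
    chk (cand m a a') = true → GoodP m a a' := by
  decide +kernel

theorem good_card :
    (Finset.univ.filter (fun t : ZMod 23 × ZMod 23 × ZMod 23 => GoodP t.1 t.2.1 t.2.2)).card = 55 := by
  decide +kernel

theorem good_sq : ∀ m a a' : ZMod 23, GoodP m a a' →
    (∀ p, cand m a a' (cand m a a' p) = p) → ∀ p, cand m a a' p = p := by
  decide +kernel

theorem good_cube : ∀ m a a' : ZMod 23, GoodP m a a' →
    (∀ p, cand m a a' (cand m a a' (cand m a a' p)) = p) → ∀ p, cand m a a' p = p := by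
  decide +kernel

theorem dlog_cases : ∀ x : ZMod 23, x ≠ 0 →
    (dlog x < 11 ∧ x = 2 ^ dlog x) ∨ (¬ dlog x < 11 ∧ x = -(2 ^ dlog (-x))) := by
  decide +kernel

end Cfsg.Agent.Lib.Helper9.M24Max
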