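import Cfsg.Agent.Lib.Helper9.M24Max.Grp

/-!
Normalisers in `M23` of the subgroups of order `23` and `11` of `23:11`.
-/

set_option autoImplicit false

namespace Cfsg.Agent.Lib.Helper9.M24Max

open Cfsg Cfsg.Agent.Lib.Helper21

theorem exists_h (g : Equiv.Perm GolayPt) (hg : g none = none) :
    ∃ h : ZMod 23 → ZMod 23, ∀ x, g (some x) = some (h x) := by
  refine ⟨fun x => (g (some x)).getD 0, fun x => ?_⟩
  show g (some x) = some ((g (some x)).getD 0)
  cases hx : g (some x) with
  | none =>
    have := g.injective (hx.trans hg.symm)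
    exact absurd this (by simp)
  | some y => simp

theorem exists_pow_of_conj_mem {g t : Equiv.Perm GolayPt} (h : g * t * g⁻¹ ∈ Subgroup.zpowers t) :
    ∃ n : ℕ, g * t = t ^ n * g := by
  rw [← mem_powers_iff_mem_zpowers] at h
  obtain ⟨n, hn⟩ := h
  refine ⟨n, ?_⟩
  have hn' : t ^ n = g * t * g⁻¹ := hn
  rw [hn']
  group

theorem coe_eq_affFun_of (g : Equiv.Perm GolayPt) (hg : g none = none) (h : ZMod 23 → ZMod 23)
    (hh : ∀ x, g (some x) = some (h x)) (k c : ZMod 23) (hk : ∀ x, h x = k * x + c) :
    (⇑g : GolayPt → GolayPt) = affFun k c := by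
  funext p
  cases p with
  | none => rw [hg]; rfl
  | some x => rw [hh, hk, affFun_some]

/-- An element of `M23` normalising `⟨x ↦ x + 1⟩` is affine with square multiplier. -/
theorem isAff_of_norm_tT (g : Equiv.Perm GolayPt) (hgM : g ∈ M24) (hg : g none = none)
    (hn : g * tT * g⁻¹ ∈ Subgroup.zpowers tT) : IsAff g := by
  obtain ⟨n, hn⟩ := exists_pow_of_conj_mem hn
  obtain ⟨h, hh⟩ := exists_h g hg
  have h1 : ∀ x, h (x + 1) = h x + n := by
    intro x
    have := congrFun (congrArg (fun f : Equiv.Perm GolayPt => (⇑f : GolayPt → GolayPt)) hn) (some x)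
    simp only [Equiv.Perm.coe_mul, Function.comp_apply, coe_tT, coe_tT_pow, affFun_some, hh] at this
    have h2 := Option.some.inj this
    rw [one_mul, one_mul] at h2
    exact h2
  have h2 : ∀ j : ℕ, h (j : ZMod 23) = n * j + h 0 := by
    intro j
    induction j with
    | zero => simp
    | succ j ih => push_cast; rw [h1, ih]; ring
  have h3 : ∀ x, h x = n * x + h 0 := by
    intro x
    have := h2 x.val
    rwa [ZMod.natCast_zmod_val] at this
  have hcoe := coe_eq_affFun_of g hg h hh n (h 0) h3
  have hn0 : (n : ZMod 23) ≠ 0 := by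
    intro h0
    have e1 : g (some 0) = g (some 1) := by rw [hh, hh, h3 0, h3 1, h0]; simp
    have := g.injective e1
    revert this; decide
  refine ⟨n, h 0, ?_, hcoe⟩
  by_contra hns
  have c1 := chk_nonsq n (h 0) hn0 hns
  have c2 := chk_of_mem g hgM
  rw [hcoe, c1] at c2
  exact Bool.false_ne_true c2

/-- An element of `M23` normalising `⟨x ↦ 2x⟩` is one of the `55` good candidates. -/
theorem good_of_norm_dD (g : Equiv.Perm GolayPt) (hgM : g ∈ M24) (hg : g none = none)
    (hn : g * dD * g⁻¹ ∈ Subgroup.zpowers dD) :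
    ∃ m a a' : ZMod 23, GoodP m a a' ∧ (⇑g : GolayPt → GolayPt) = cand m a a' := by
  obtain ⟨n, hn⟩ := exists_pow_of_conj_mem hn
  obtain ⟨h, hh⟩ := exists_h g hg
  have h1 : ∀ x, h (2 * x) = 2 ^ n * h x := by
    intro x
    have := congrFun (congrArg (fun f : Equiv.Perm GolayPt => (⇑f : GolayPt → GolayPt)) hn) (some x)
    simp only [Equiv.Perm.coe_mul, Function.comp_apply, coe_dD, coe_pow_dil dD 2 coe_dD, affFun_some, hh]
      at this
    have h2 := Option.some.inj this
    rw [add_zero, add_zero] at h2
    exact h2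
  have hinj : Function.Injective h := by
    intro x y hxy
    have : g (some x) = g (some y) := by rw [hh, hh, hxy]
    exact Option.some.inj (g.injective this)
  have hm0 : (2 : ZMod 23) ^ n ≠ 0 := pow_ne_zero _ (by decide)
  have hm1 : (2 : ZMod 23) ^ n ≠ 1 := by
    intro h1'
    have e := h1 1
    rw [h1', one_mul, mul_one] at e
    have := hinj e
    revert this; decide
  have h0 : h 0 = 0 := by
    have e := h1 0
    rw [mul_zero] at e
    have : (2 ^ n - 1) * h 0 = 0 := by rw [sub_mul, one_mul, ← e, sub_self]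
    rcases mul_eq_zero.mp this with h' | h'
    · exact absurd (sub_eq_zero.mp h') hm1
    · exact h'
  have hp : ∀ i : ℕ, h (2 ^ i) = (2 ^ n) ^ i * h 1 := by
    intro i
    induction i with
    | zero => simp
    | succ i ih => rw [pow_succ, mul_comm ((2 : ZMod 23) ^ i) 2, h1, ih, pow_succ]; ring
  have hq : ∀ i : ℕ, h (-(2 ^ i)) = (2 ^ n) ^ i * h (-1) := by
    intro i
    induction i with
    | zero => simp
    | succ i ih =>
      have : -((2 : ZMod 23) ^ (i + 1)) = 2 * (-(2 ^ i)) := by ring
      rw [this, h1, ih, pow_succ]; ring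
  have ha : h 1 ≠ 0 := by
    intro e
    have := hinj (e.trans h0.symm)
    revert this; decide
  have ha' : h (-1) ≠ 0 := by
    intro e
    have := hinj (e.trans h0.symm)
    revert this; decide
  have hcoe : (⇑g : GolayPt → GolayPt) = cand (2 ^ n) (h 1) (h (-1)) := by
    funext p
    cases p with
    | none => rw [hg]; rfl
    | some x =>
      rw [hh]
      by_cases hx : x = 0
      · subst hx
        rw [h0]; simp [cand]
      · rcases dlog_cases x hx with ⟨hd, hx'⟩ | ⟨hd, hx'⟩
        · have : cand (2 ^ n) (h 1) (h (-1)) (some x) = some ((2 ^ n) ^ dlog x * h 1) := by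
            simp only [cand, if_neg hx, if_pos hd]
          rw [this]
          congr 1
          conv_lhs => rw [hx']
          exact hp _
        · have : cand (2 ^ n) (h 1) (h (-1)) (some x) = some ((2 ^ n) ^ dlog (-x) * h (-1)) := by
            simp only [cand, if_neg hx, if_neg hd]
          rw [this]
          congr 1
          conv_lhs => rw [hx']
          exact hq _
  refine ⟨2 ^ n, h 1, h (-1), ?_, hcoe⟩
  apply chk_cand _ _ _ hm0 hm1 ha ha'
  rw [← hcoe]
  exact chk_of_mem g hgM

end Cfsg.Agent.Lib.Helper9.M24Max
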